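import Groth.Agent.Lib.P1Form12.Main
import Groth.Agent.Lib.RegExt.P1
import Groth.Agent.Lib.EGA2.ProjMap
import Mathlib.RingTheory.TensorProduct.Finite
import Mathlib.LinearAlgebra.Dimension.Constructions

/-!
# Automorphisms of the projective line fixing a purely inseparable point of degree at least three
-/

set_option autoImplicit false
set_option linter.style.haveILetI false
set_option maxHeartbeats 1000000
set_option backward.isDefEq.respectTransparency false
set_option backward.isDefEq.respectTransparency.types false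

universe u

open CategoryTheory CategoryTheory.Limits AlgebraicGeometry MvPolynomial HomogeneousLocalization TensorProduct

noncomputable section

namespace Groth.Agent.P1Aut12

open Groth.Agent Groth.Agent.P1Form12

variable {K : Type u} [Field K]

local notation "gr" => CohB1.polyGrading 1 K
local notation "P1" => CohB1.ProjSpace 1 K

section Pt

variable {R R' : Type u} [CommRing R] [Algebra K R] [CommRing R'] [Algebra K R']

/-- The point with coordinate `x` in the chart `i`. -/
def pt (i : Fin (1 + 1)) (x : R) : Spec (CommRingCat.of R) ⟶ P1 :=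
  Spec.map (CommRingCat.ofHom (aeval (R := K) (fun _ : {j : Fin (1 + 1) // j ≠ i} => x)).toRingHom) ≫
    ProjSpace.chart 1 K i

theorem pt_toSpec (i : Fin (1 + 1)) (x : R) :
    pt (K := K) i x ≫ CohB1.ProjSpace.toSpec 1 K = Spec.map (CommRingCat.ofHom (algebraMap K R)) := by
  rw [pt, Category.assoc, ProjSpace.chart_toSpec, ← Spec.map_comp, ← CommRingCat.ofHom_comp]
  congr 2
  ext c
  simp

theorem map_pt (i : Fin (1 + 1)) (x : R) (g : R →ₐ[K] R') :
    Spec.map (CommRingCat.ofHom g.toRingHom) ≫ pt (K := K) i x = pt i (g x) := by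
  rw [pt, pt, ← Category.assoc, ← Spec.map_comp, ← CommRingCat.ofHom_comp]
  congr 3
  apply MvPolynomial.ringHom_ext <;> intro a <;> simp

theorem pt_injective (i : Fin (1 + 1)) {x y : R} (h : pt (K := K) i x = pt i y) : x = y := by
  rw [pt, pt, cancel_mono] at h
  have h2 := congrArg CommRingCat.Hom.hom (Spec.map_injective h)
  obtain ⟨j, hj⟩ : ∃ j : Fin (1 + 1), j ≠ i := exists_ne i
  simpa using RingHom.congr_fun h2 (X ⟨j, hj⟩)

theorem range_pt_subset (i : Fin (1 + 1)) (x : R) :
    Set.range (pt (K := K) i x) ⊆ Set.range (ProjSpace.chart 1 K i) := by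
  rintro _ ⟨w, rfl⟩
  exact ⟨_, (Scheme.Hom.comp_apply _ _ w).symm⟩

theorem eq_pt (i : Fin (1 + 1)) (f : Spec (CommRingCat.of R) ⟶ P1)
    (hf : Set.range f ⊆ Set.range (ProjSpace.chart 1 K i))
    (hc : f ≫ CohB1.ProjSpace.toSpec 1 K = Spec.map (CommRingCat.ofHom (algebraMap K R))) :
    ∃ x : R, f = pt i x := by
  obtain ⟨g, hg⟩ : ∃ g, g ≫ ProjSpace.chart 1 K i = f :=
    ⟨IsOpenImmersion.lift (ProjSpace.chart 1 K i) f hf, IsOpenImmersion.lift_fac _ _ _⟩
  obtain ⟨c, rfl⟩ := Spec.map_surjective g
  obtain ⟨j, hj⟩ : ∃ j : Fin (1 + 1), j ≠ i := exists_ne i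
  refine ⟨c.hom (X ⟨j, hj⟩), hg.symm.trans ?_⟩
  rw [← hg, Category.assoc, ProjSpace.chart_toSpec, ← Spec.map_comp] at hc
  have hc' := congrArg CommRingCat.Hom.hom (Spec.map_injective hc)
  rw [pt]
  congr 2
  refine CommRingCat.hom_ext (MvPolynomial.ringHom_ext (fun a => ?_) fun m => ?_)
  · simpa using RingHom.congr_fun hc' a
  · have : m = ⟨j, hj⟩ := by
      obtain ⟨m, hm⟩ := m
      refine Subtype.ext (?_ : m = j)
      fin_cases i <;> fin_cases j <;> fin_cases m <;>
        first | rfl | exact absurd rfl hj | exact absurd rfl hm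
    subst this
    simp

theorem pt_swap (x y : R) (hxy : x * y = 1) : pt (K := K) 0 x = pt 1 y := by
  let v : Fin (1 + 1) → R := fun i => if i = 0 then y else 1
  let F : MvPolynomial (Fin (1 + 1)) K := X 0 * X 1
  have hv : IsUnit ((aeval v).toRingHom F) := by
    simp only [F, AlgHom.toRingHom_eq_coe, RingHom.coe_coe, map_mul, aeval_X, v]
    simpa using IsUnit.of_mul_eq_one_right x hxy
  have hv' : IsUnit y := IsUnit.of_mul_eq_one_right x hxy
  let Θ : Away gr F →+* R :=
    (Localization.awayLift (aeval v).toRingHom F hv).comp (algebraMap (Away gr F) (Localization.Away F))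
  have key : ∀ (i : Fin (1 + 1)) (g : MvPolynomial (Fin (1 + 1)) K) (hg : g ∈ gr 1) (hF : F = X i * g)
      (z : R), (∀ m : {m : Fin (1 + 1) // m ≠ i}, z * v i = v m.1) →
      Spec.map (CommRingCat.ofHom Θ) ≫
          Proj.awayι gr F (hF ▸ SetLike.mul_mem_graded (ProjSpace.X_mem' 1 K i) hg) (by omega : 0 < 1 + 1) =
        pt i z := by
    intro i g hg hF z hz
    have hu : IsUnit (v i) := by
      by_cases h : i = 0 <;> simp [v, h, hv']
    have hlift : ∀ w : Away gr (X i : MvPolynomial (Fin (1 + 1)) K), Θ (awayMap gr hg hF w) =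
        Localization.awayLift (aeval v).toRingHom (X i) (by simpa using hu) w.val := by
      intro w
      show Localization.awayLift (aeval v).toRingHom F hv (awayMap gr hg hF w).val = _
      rw [val_awayMap]
      refine congrFun (congrArg DFunLike.coe (IsLocalization.ringHom_ext (Submonoid.powers (X i : MvPolynomial (Fin (1 + 1)) K))
        (j := (Localization.awayLift (aeval v).toRingHom F hv).comp (Localization.awayLift (algebraMap _ _) _ _))
        (k := Localization.awayLift (aeval v).toRingHom (X i) _) (RingHom.ext fun p => ?_))) w.val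
      simp [Localization.awayLift]
    rw [← Proj.SpecMap_awayMap_awayι gr (ProjSpace.X_mem' 1 K i) Nat.one_pos hg hF, ← Category.assoc,
      ← Spec.map_comp, ← CommRingCat.ofHom_comp, pt]
    show _ = _ ≫ (Spec.map (CommRingCat.ofHom (ProjSpace.chartEquiv K i).symm.toRingHom) ≫
      Proj.awayι gr (X i) (ProjSpace.X_mem' 1 K i) Nat.one_pos)
    rw [← Category.assoc, ← Spec.map_comp, ← CommRingCat.ofHom_comp]
    congr 3
    refine RingHom.ext fun w => ?_
    obtain ⟨p, rfl⟩ := (ProjSpace.chartEquiv K i).surjective w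
    simp only [RingHom.comp_apply, RingEquiv.toRingHom_eq_coe, RingHom.coe_coe, RingEquiv.symm_apply_apply,
      AlgHom.toRingHom_eq_coe]
    revert p
    refine RingHom.congr_fun (f := (Θ.comp (awayMap gr hg hF)).comp (ProjSpace.chartEquiv K i).toRingHom)
      (g := (aeval (R := K) fun _ : {m : Fin (1 + 1) // m ≠ i} => z).toRingHom) ?_
    refine MvPolynomial.ringHom_ext (fun a => ?_) fun m => ?_
    · simp only [RingHom.comp_apply, RingEquiv.toRingHom_eq_coe, RingHom.coe_coe, ProjSpace.chartEquiv_apply,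
        ProjSpace.toAway_C, hlift, ProjSpace.val_const]
      simp [Localization.awayLift]
    · simp only [RingHom.comp_apply, RingEquiv.toRingHom_eq_coe, RingHom.coe_coe, ProjSpace.chartEquiv_apply,
        ProjSpace.toAway_X, hlift, ProjSpace.val_coord]
      simp only [Localization.awayLift, IsLocalization.Away.lift, Localization.mk_eq_mk', IsLocalization.lift_mk'_spec]
      simpa [mul_comm] using (hz m).symm
  have h0 := key 0 (X 1) (ProjSpace.X_mem' 1 K 1) rfl x fun m => by
    obtain ⟨m, hm⟩ := m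
    simp [v, hm, hxy]
  have h1 := key 1 (X 0) (ProjSpace.X_mem' 1 K 0) (mul_comm _ _) y fun m => by
    obtain ⟨m, hm⟩ := m
    fin_cases m
    · simp [v]
    · exact absurd rfl hm
  exact h0.symm.trans h1

end Pt

section Rigid

open Polynomial in
/-- An automorphism of the polynomial ring is affine. -/
theorem exists_affine (σ τ : Polynomial K →ₐ[K] Polynomial K) (h : σ.comp τ = AlgHom.id K _) :
    ∃ a b : K, a ≠ 0 ∧ σ Polynomial.X = Polynomial.C a * Polynomial.X + Polynomial.C b := by
  have h1 : (τ Polynomial.X).comp (σ Polynomial.X) = Polynomial.X := by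
    have := AlgHom.congr_fun h Polynomial.X
    rw [AlgHom.comp_apply, AlgHom.id_apply] at this
    calc (τ Polynomial.X).comp (σ Polynomial.X) = Polynomial.aeval (σ Polynomial.X) (τ Polynomial.X) :=
          Polynomial.comp_eq_aeval
      _ = σ (Polynomial.aeval Polynomial.X (τ Polynomial.X)) := Polynomial.aeval_algHom_apply σ _ _
      _ = Polynomial.X := by rw [Polynomial.aeval_X_left_apply, this]
  have h2 : (τ Polynomial.X).natDegree * (σ Polynomial.X).natDegree = 1 := by
    rw [← Polynomial.natDegree_comp, h1, Polynomial.natDegree_X]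
  have h3 : (σ Polynomial.X).natDegree = 1 := Nat.eq_one_of_mul_eq_one_left h2
  refine ⟨(σ Polynomial.X).coeff 1, (σ Polynomial.X).coeff 0, fun h0 => ?_, ?_⟩
  · have hne : σ Polynomial.X ≠ 0 := fun e => by rw [e] at h3; simp at h3
    apply Polynomial.leadingCoeff_ne_zero.2 hne
    rw [Polynomial.leadingCoeff, h3, h0]
  · exact Polynomial.eq_X_add_C_of_natDegree_le_one h3.le

theorem range_pt_X : Set.range (pt (K := K) 0 (Polynomial.X : Polynomial K)) = Set.range (ProjSpace.chart 1 K 0) := by
  refine Set.Subset.antisymm (range_pt_subset 0 _) ?_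
  rintro _ ⟨w, rfl⟩
  let g : Polynomial K →ₐ[K] MvPolynomial {m : Fin (1 + 1) // m ≠ 0} K := Polynomial.aeval (MvPolynomial.X ⟨1, by decide⟩)
  have hg : Spec.map (CommRingCat.ofHom g.toRingHom) ≫ pt (K := K) 0 (Polynomial.X : Polynomial K) =
      ProjSpace.chart 1 K 0 := by
    rw [map_pt, pt]
    have : (MvPolynomial.aeval (R := K) fun _ : {m : Fin (1 + 1) // m ≠ 0} => g Polynomial.X).toRingHom =
        RingHom.id _ := by
      refine MvPolynomial.ringHom_ext (fun a => by simp) fun m => ?_
      obtain ⟨m, hm⟩ := m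
      fin_cases m
      · exact absurd rfl hm
      · simp [g]
    rw [this, CommRingCat.ofHom_id, Spec.map_id, Category.id_comp]
  exact ⟨Spec.map (CommRingCat.ofHom g.toRingHom) w, by rw [← Scheme.Hom.comp_apply, hg]⟩

/-- An automorphism fixing a thick point at infinity is the identity. -/
theorem rigid (ψ : P1 ≅ P1) (hψ : ψ.hom ≫ CohB1.ProjSpace.toSpec 1 K = CohB1.ProjSpace.toSpec 1 K)
    (hrange : ∀ p, ψ.hom p ∈ Set.range (ProjSpace.chart 1 K 0) ↔ p ∈ Set.range (ProjSpace.chart 1 K 0))
    {Q : Type u} [CommRing Q] [Algebra K Q] (s : Q) (hs : IsNilpotent s) (hs2 : s * s ≠ 0)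
    (hfix : pt (K := K) 1 s ≫ ψ.hom = pt 1 s) : ψ.hom = 𝟙 _ := by
  have hψ' : ψ.inv ≫ CohB1.ProjSpace.toSpec 1 K = CohB1.ProjSpace.toSpec 1 K := by
    conv_lhs => rw [← hψ, ψ.inv_hom_id_assoc]
  have hrange' : ∀ p, ψ.inv p ∈ Set.range (ProjSpace.chart 1 K 0) ↔ p ∈ Set.range (ProjSpace.chart 1 K 0) := fun p => by
    rw [← hrange (ψ.inv p), ← Scheme.Hom.comp_apply, ψ.inv_hom_id]
    rfl
  have hsub : ∀ (f : P1 ⟶ P1), f ≫ CohB1.ProjSpace.toSpec 1 K = CohB1.ProjSpace.toSpec 1 K →
      (∀ p, f p ∈ Set.range (ProjSpace.chart 1 K 0) ↔ p ∈ Set.range (ProjSpace.chart 1 K 0)) →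
      ∃ σ : Polynomial K →ₐ[K] Polynomial K, pt (K := K) 0 (Polynomial.X : Polynomial K) ≫ f = pt 0 (σ Polynomial.X) := by
    intro f hf hfr
    obtain ⟨x, hx⟩ := eq_pt 0 (pt (K := K) 0 (Polynomial.X : Polynomial K) ≫ f) (by
      rintro _ ⟨w, rfl⟩
      rw [Scheme.Hom.comp_apply, hfr]
      exact range_pt_subset 0 _ ⟨w, rfl⟩) (by rw [Category.assoc, hf, pt_toSpec])
    exact ⟨Polynomial.aeval x, by simpa using hx⟩
  obtain ⟨σ, hσ⟩ := hsub ψ.hom hψ hrange
  obtain ⟨τ, hτ⟩ := hsub ψ.inv hψ' hrange'
  have hστ : σ.comp τ = AlgHom.id K _ := by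
    refine Polynomial.algHom_ext (pt_injective (K := K) 0 ?_)
    rw [AlgHom.comp_apply, AlgHom.id_apply, ← map_pt 0 (τ Polynomial.X) σ, ← hτ, ← Category.assoc, map_pt,
      ← hσ, Category.assoc, ψ.hom_inv_id, Category.comp_id]
  obtain ⟨a, b, ha, hσX⟩ := exists_affine σ τ hστ
  -- the formula near infinity
  let G : Polynomial K := Polynomial.C a + Polynomial.C b * Polynomial.X
  have hG : G ≠ 0 := fun h => ha (by simpa [G] using congrArg (fun p => Polynomial.coeff p 0) h)
  let R₁ := Localization.Away G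
  let F := FractionRing (Polynomial K)
  haveI : IsDomain R₁ := IsLocalization.isDomain_localization
    (powers_le_nonZeroDivisors_of_noZeroDivisors hG)
  have hGF : IsUnit (algebraMap (Polynomial K) F G) :=
    isUnit_iff_ne_zero.2 fun h => hG (IsFractionRing.injective (Polynomial K) F (h.trans (map_zero _).symm))
  let j₁ : R₁ →ₐ[K] F :=
    { IsLocalization.Away.lift G hGF with
      commutes' := fun c => by
        show IsLocalization.Away.lift G hGF (algebraMap K R₁ c) = _
        rw [IsScalarTower.algebraMap_apply K (Polynomial K) R₁, IsLocalization.Away.lift_eq,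
          ← IsScalarTower.algebraMap_apply] }
  have hj₁ : ∀ p : Polynomial K, j₁ (algebraMap _ R₁ p) = algebraMap _ F p := fun p =>
    IsLocalization.Away.lift_eq G hGF p
  have hj₁inj : Function.Injective j₁ := by
    show Function.Injective (IsLocalization.Away.lift (S := R₁) G hGF)
    refine (IsLocalization.injective_iff_map_algebraMap_eq (Submonoid.powers G) _).2 fun p q => ?_
    simp only [IsLocalization.Away.lift_eq]
    constructor
    · intro h
      have h' := congrArg j₁ h
      rwa [hj₁, hj₁] at h'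
    · intro h
      rw [IsFractionRing.injective (Polynomial K) F h]
  obtain ⟨Ginv, hGinv⟩ := (IsLocalization.Away.algebraMap_isUnit (S := R₁) G).exists_right_inv
  let d : R₁ := algebraMap _ R₁ (Polynomial.X : Polynomial K) * Ginv
  have hF : pt (K := K) 1 (algebraMap (Polynomial K) R₁ Polynomial.X) ≫ ψ.hom = pt 1 d := by
    haveI : IsDominant (Spec.map (CommRingCat.ofHom j₁.toRingHom)) := by
      rw [isDominant_iff]
      exact PrimeSpectrum.denseRange_comap_iff_ker_le_nilRadical j₁.toRingHom |>.2
        (by rw [(RingHom.injective_iff_ker_eq_bot j₁.toRingHom).1 hj₁inj]; exact bot_le)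
    refine ext_of_isDominant_of_isSeparated (CohB1.ProjSpace.toSpec 1 K) ?_
      (Spec.map (CommRingCat.ofHom j₁.toRingHom)) ?_
    · rw [Category.assoc, hψ, pt_toSpec, pt_toSpec]
    · let T : F := algebraMap (Polynomial K) F Polynomial.X
      have hT : T ≠ 0 := fun h => Polynomial.X_ne_zero
        (IsFractionRing.injective (Polynomial K) F (h.trans (map_zero _).symm))
      let e : Polynomial K →ₐ[K] F := Polynomial.aeval T⁻¹
      rw [← Category.assoc, map_pt, map_pt, hj₁, ← pt_swap T⁻¹ T (inv_mul_cancel₀ hT)]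
      have h1 : pt (K := K) 0 T⁻¹ = Spec.map (CommRingCat.ofHom e.toRingHom) ≫ pt 0 Polynomial.X := by
        rw [map_pt]; simp [e]
      rw [h1, Category.assoc, hσ, map_pt, hσX]
      refine pt_swap _ _ ?_
      have hGG : algebraMap (Polynomial K) F G * j₁ Ginv = 1 := by
        rw [← hj₁, ← map_mul, hGinv, map_one]
      have hGe : algebraMap (Polynomial K) F G = algebraMap K F a + algebraMap K F b * T := by
        simp only [G, map_add, map_mul, T, ← Polynomial.algebraMap_eq]
        rw [← IsScalarTower.algebraMap_apply, ← IsScalarTower.algebraMap_apply]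
      simp only [d, e, map_add, map_mul, Polynomial.aeval_C, Polynomial.aeval_X, hj₁]
      rw [← hGG, hGe]
      simp only [T] at hT ⊢
      linear_combination (algebraMap K F a * j₁ Ginv) * inv_mul_cancel₀ hT
  -- pull back to the thick point
  let c : Polynomial K →ₐ[K] Q := Polynomial.aeval s
  have hGQ : IsUnit (c G) := by
    simp only [c, G, map_add, map_mul, Polynomial.aeval_C, Polynomial.aeval_X]
    exact (Commute.all _ _).isNilpotent_mul_left hs |>.isUnit_add_left_of_commute
      ((IsUnit.mk0 a ha).map (algebraMap K Q)) (Commute.all _ _)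
  let c₁ : R₁ →ₐ[K] Q :=
    { IsLocalization.Away.lift (g := c.toRingHom) G hGQ with
      commutes' := fun t => by
        show IsLocalization.Away.lift (g := c.toRingHom) G hGQ (algebraMap K R₁ t) = _
        rw [IsScalarTower.algebraMap_apply K (Polynomial K) R₁, IsLocalization.Away.lift_eq]
        exact c.commutes t }
  have hc₁ : ∀ p : Polynomial K, c₁ (algebraMap _ R₁ p) = c p := fun p =>
    IsLocalization.Away.lift_eq (g := c.toRingHom) G hGQ p
  have hd : c₁ d = s := by
    refine pt_injective (K := K) 1 ?_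
    rw [← map_pt 1 d c₁, ← hF, ← Category.assoc, map_pt, hc₁]
    simpa [c] using hfix
  have heq : s = s * (algebraMap K Q a + algebraMap K Q b * s) := by
    have h1 : c₁ d * c G = s := by
      rw [← hc₁ G, ← map_mul, show d * algebraMap _ R₁ G = algebraMap _ R₁ (Polynomial.X : Polynomial K) by
        rw [mul_assoc, mul_comm Ginv, hGinv, mul_one], hc₁]
      simp [c]
    rw [hd] at h1
    simpa [c, G] using h1.symm
  have ha1 : a = 1 := by
    by_contra hne
    apply hs2
    have hu : IsUnit (algebraMap K Q (a - 1) + algebraMap K Q b * s) :=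
      (Commute.all _ _).isNilpotent_mul_left hs |>.isUnit_add_left_of_commute
        ((IsUnit.mk0 _ (sub_ne_zero.2 hne)).map (algebraMap K Q)) (Commute.all _ _)
    have h0 : s * (algebraMap K Q (a - 1) + algebraMap K Q b * s) = 0 := by
      rw [map_sub, map_one]
      linear_combination -heq
    rw [hu.mul_left_eq_zero.1 h0, zero_mul]
  have hb0 : b = 0 := by
    by_contra hne
    apply hs2
    have h0 : algebraMap K Q b * (s * s) = 0 := by
      rw [ha1, map_one] at heq
      linear_combination -heq
    exact ((IsUnit.mk0 b hne).map (algebraMap K Q)).mul_right_eq_zero.1 h0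
  have hid : pt (K := K) 0 (Polynomial.X : Polynomial K) ≫ ψ.hom = pt 0 Polynomial.X := by
    rw [hσ, hσX, ha1, hb0]; simp
  haveI : IsReduced P1 := EGA2.isReduced_proj gr fun f _ h => IsReduced.eq_zero f h
  haveI : IsDominant (pt (K := K) 0 (Polynomial.X : Polynomial K)) := by
    rw [isDominant_iff, DenseRange, range_pt_X]
    exact dense_chart 0
  exact ext_of_isDominant_of_isSeparated (CohB1.ProjSpace.toSpec 1 K) (by rw [hψ, Category.id_comp]) _
    (by rw [hid, Category.comp_id])
where
  dense_chart (i : Fin (1 + 1)) : Dense (Set.range (ProjSpace.chart 1 K i)) := by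
    haveI : IsIntegral P1 := RegExt.isIntegral_projSpace 1 K
    exact (ProjSpace.chart 1 K i).isOpenEmbedding.isOpen_range.dense (Set.range_nonempty _)

end Rigid

section Main

variable [IsAlgClosed K] {k : Type u} [Field k] [Algebra k K] [Algebra.IsAlgebraic k K]

theorem main (P : ↥(CohB1.ProjSpace 1 k))
    (hpi : letI := ((CohB1.ProjSpace.toSpec 1 k).residueFieldMap P).hom.toAlgebra
      IsPurelyInseparable ↑((Spec (CommRingCat.of k)).residueField ((CohB1.ProjSpace.toSpec 1 k) P)) ↑((CohB1.ProjSpace 1 k).residueField P))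
    (hdeg : letI := ((CohB1.ProjSpace.toSpec 1 k).residueFieldMap P).hom.toAlgebra
      3 ≤ Module.finrank ↑((Spec (CommRingCat.of k)).residueField ((CohB1.ProjSpace.toSpec 1 k) P)) ↑((CohB1.ProjSpace 1 k).residueField P))
    (φ : pullback (CohB1.ProjSpace.toSpec 1 k) (Spec.map (CommRingCat.ofHom (algebraMap k K))) ≅ pullback (CohB1.ProjSpace.toSpec 1 k) (Spec.map (CommRingCat.ofHom (algebraMap k K))))
    (hφ : φ.hom ≫ pullback.snd (CohB1.ProjSpace.toSpec 1 k) (Spec.map (CommRingCat.ofHom (algebraMap k K))) = pullback.snd (CohB1.ProjSpace.toSpec 1 k) (Spec.map (CommRingCat.ofHom (algebraMap k K))))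
    (hfix : ∀ (T : Scheme.{u}) (z : T ⟶ pullback (CohB1.ProjSpace.toSpec 1 k) (Spec.map (CommRingCat.ofHom (algebraMap k K)))) (w : T ⟶ Spec ((CohB1.ProjSpace 1 k).residueField P)),
      z ≫ pullback.fst (CohB1.ProjSpace.toSpec 1 k) (Spec.map (CommRingCat.ofHom (algebraMap k K))) = w ≫ (CohB1.ProjSpace 1 k).fromSpecResidueField P → z ≫ φ.hom = z) :
    φ.hom = 𝟙 _ := by
  let pk := CohB1.ProjSpace.toSpec 1 k
  let σ := Spec.map (CommRingCat.ofHom (algebraMap k K))
  let m := ProjSpace.map 1 (algebraMap k K)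
  have hm : IsPullback m (CohB1.ProjSpace.toSpec 1 K) pk σ := ProjSpace.isPullback_map 1 (algebraMap k K)
  let h := hm.isoPullback
  let κ := (CohB1.ProjSpace 1 k).residueField P
  let r := (CohB1.ProjSpace 1 k).fromSpecResidueField P
  -- the residue field as a k-algebra
  let κ₀ := (Spec (CommRingCat.of k)).residueField (pk P)
  haveI : IsIso ((Spec (CommRingCat.of k)).fromSpecResidueField (pk P)) := by
    haveI : IsClosedImmersion ((Spec (CommRingCat.of k)).fromSpecResidueField (pk P)) :=
      IsClosedImmersion.of_isPreimmersion _ (by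
        rw [Scheme.range_fromSpecResidueField]
        exact Set.subsingleton_singleton.isClosed)
    haveI : Surjective ((Spec (CommRingCat.of k)).fromSpecResidueField (pk P)) :=
      ⟨fun y => ⟨IsLocalRing.closedPoint _, Subsingleton.elim (α := PrimeSpectrum k) _ _⟩⟩
    exact isIso_of_isClosedImmersion_of_surjective _
  obtain ⟨j, hj⟩ := Spec.map_surjective ((Spec (CommRingCat.of k)).fromSpecResidueField (pk P))
  haveI : IsIso (Spec.map j) := by rw [hj]; infer_instance
  haveI : IsIso j := by
    haveI : IsIso (Scheme.Spec.map j.op) := (inferInstance : IsIso (Spec.map j))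
    haveI := isIso_of_reflects_iso j.op Scheme.Spec
    exact (isIso_op_iff j).1 ‹IsIso j.op›
  have hjb : Function.Bijective j.hom := (ConcreteCategory.isIso_iff_bijective j).1 inferInstance
  letI algκ : Algebra k κ := (j ≫ pk.residueFieldMap P).hom.toAlgebra
  have hrk : r ≫ pk = Spec.map (CommRingCat.ofHom (algebraMap k κ)) := by
    show _ = Spec.map (j ≫ pk.residueFieldMap P)
    rw [Spec.map_comp, hj]
    exact (pk.SpecMap_residueFieldMap_fromSpecResidueField P).symm
  letI := (pk.residueFieldMap P).hom.toAlgebra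
  haveI := hpi
  have hfin : 3 ≤ Module.finrank k κ := by
    rw [Algebra.finrank_eq_of_equiv_equiv (RingEquiv.ofBijective j.hom hjb) (RingEquiv.refl κ) rfl]
    exact hdeg
  haveI : Module.Finite k κ := Module.finite_of_finrank_pos (by omega)
  haveI hui : UniversallyInjective (r ≫ pk) := by
    haveI : UniversallyInjective (Spec.map (pk.residueFieldMap P)) := universallyInjective_spec κ₀ κ
    rw [← pk.SpecMap_residueFieldMap_fromSpecResidueField P]
    exact MorphismProperty.comp_mem @UniversallyInjective _ _ ‹_› inferInstance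
  -- the thick point
  have hsq := (IsPullback.of_hasPullback m r).flip.paste_vert hm
  let W := pullback m r
  let v := pullback.fst m r
  haveI : UniversallyInjective (v ≫ CohB1.ProjSpace.toSpec 1 K) :=
    MorphismProperty.of_isPullback (P := @UniversallyInjective) hsq hui
  have hsub : Subsingleton (W : Scheme.{u}) :=
    ⟨fun x y => (v ≫ CohB1.ProjSpace.toSpec 1 K).injective (Subsingleton.elim (α := PrimeSpectrum K) _ _)⟩
  rw [hrk] at hsq
  let Q := κ ⊗[k] K
  letI : Algebra K Q := Algebra.TensorProduct.rightAlgebra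
  let eW : W ≅ Spec (CommRingCat.of Q) := hsq.isoPullback ≪≫ pullbackSpecIso k κ K
  have hv : (eW.inv ≫ v) ≫ CohB1.ProjSpace.toSpec 1 K = Spec.map (CommRingCat.ofHom (algebraMap K Q)) := by
    simp only [eW, Iso.trans_inv, Category.assoc]
    rw [hsq.isoPullback_inv_snd, pullbackSpecIso_inv_snd]
    rfl
  haveI : Module.Free K Q := Module.Free.of_divisionRing K Q
  have hdim : 3 ≤ Module.finrank K Q := by
    let ec : K ⊗[k] κ ≃ₐ[K] Q :=
      { (Algebra.TensorProduct.comm k K κ).toRingEquiv with
        commutes' := fun c => by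
          show (Algebra.TensorProduct.comm k K κ) (c ⊗ₜ 1) = 1 ⊗ₜ c
          rfl }
    rw [← ec.toLinearEquiv.finrank_eq, Module.finrank_baseChange]
    exact hfin
  haveI : Nontrivial Q := Module.nontrivial_of_finrank_pos (R := K) (by omega)
  obtain ⟨w₀⟩ : Nonempty (Spec (CommRingCat.of Q)) := inferInstanceAs (Nonempty (PrimeSpectrum Q))
  have hQ : Subsingleton (Spec (CommRingCat.of Q)) :=
    ⟨fun x y => eW.inv.homeomorph.injective (hsub.elim _ _)⟩
  -- closedness
  haveI : IsIntegralHom σ := by
    rw [IsIntegralHom.SpecMap_iff]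
    exact Algebra.IsIntegral.isIntegral (R := k) (A := K)
  haveI : IsIntegralHom m := MorphismProperty.of_isPullback hm.flip (inferInstance : IsIntegralHom σ)
  let z₀ := (eW.inv ≫ v) w₀
  haveI : Module.Finite K Q := Module.finite_of_finrank_pos (by omega)
  haveI : IsFinite ((eW.inv ≫ v) ≫ CohB1.ProjSpace.toSpec 1 K) := by
    rw [hv, IsFinite.SpecMap_iff, CommRingCat.hom_ofHom, RingHom.finite_algebraMap]
    infer_instance
  haveI : IsFinite (eW.inv ≫ v) := IsFinite.of_comp _ (CohB1.ProjSpace.toSpec 1 K)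
  have hz₀ : IsClosed ({z₀} : Set P1) := by
    have he : Set.range (eW.inv ≫ v) = {z₀} := by
      refine Set.eq_singleton_iff_unique_mem.2 ⟨⟨w₀, rfl⟩, ?_⟩
      rintro _ ⟨w, rfl⟩
      rw [hQ.elim w w₀]
    rw [← he]
    exact (eW.inv ≫ v).isClosedMap.isClosed_range
  have hP : IsClosed ({P} : Set (CohB1.ProjSpace 1 k)) := by
    have : m z₀ = P := by
      have h1 : (eW.inv ≫ v) ≫ m = (eW.inv ≫ pullback.snd m r) ≫ r := by
        simp only [Category.assoc, v, pullback.condition]
      show m ((eW.inv ≫ v) w₀) = P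
      rw [← Scheme.Hom.comp_apply, h1, Scheme.Hom.comp_apply]
      have hmem : ∀ x, (CohB1.ProjSpace 1 k).fromSpecResidueField P x ∈ ({P} : Set (CohB1.ProjSpace 1 k)) := fun x => by
        rw [← Scheme.range_fromSpecResidueField P]; exact ⟨x, rfl⟩
      exact hmem _
    rw [← this, ← Set.image_singleton]
    exact m.isClosedMap _ hz₀
  haveI : IsClosedImmersion r := isClosed_singleton_iff_isClosedImmersion.1 hP
  haveI : IsClosedImmersion v := MorphismProperty.of_isPullback (IsPullback.of_hasPullback m r).flip ‹IsClosedImmersion r›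
  -- move the point to infinity
  obtain ⟨a, b, ha, hb, hab, hba, hza⟩ := exists_basis z₀ hz₀
  let e : P1 ≅ P1 := ⟨auto a b ha hb hab, auto b a hb ha hba, auto_comp a b ha hb hab hba, auto_comp b a hb ha hba hab⟩
  have hnot : e.hom z₀ ∉ Set.range (ProjSpace.chart 1 K 0) := by
    intro h'
    apply hza
    have h'' : e.hom z₀ ∈ Proj.basicOpen gr (MvPolynomial.X 0) := by
      rw [← ProjSpace.opensRange_chart]; exact h'
    have : z₀ ∈ auto a b ha hb hab ⁻¹ᵁ Proj.basicOpen gr (MvPolynomial.X 0) := h''
    rw [auto, Proj.map_preimage_basicOpen, subst_apply, MvPolynomial.aeval_X] at this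
    exact this
  let f := (eW.inv ≫ v) ≫ e.hom
  have hfw : ∀ w, f w = e.hom z₀ := fun w => by
    rw [hQ.elim w w₀]; rfl
  obtain ⟨s, hs⟩ := eq_pt (K := K) 1 f (by
      rintro _ ⟨w, rfl⟩
      obtain ⟨i, hi⟩ := ProjSpace.exists_mem_chart 1 K (f w)
      fin_cases i
      · exact absurd hi (hfw w ▸ hnot)
      · exact hi) (by rw [Category.assoc, auto_toSpec, hv])
  have hnil : IsNilpotent s := by
    rw [nilpotent_iff_mem_prime]
    intro p hp
    let w : Spec (CommRingCat.of Q) := (⟨p, hp⟩ : PrimeSpectrum Q)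
    have h1 : f w ∉ Set.range (ProjSpace.chart 1 K 0) := hfw w ▸ hnot
    rw [hs, pt, Scheme.Hom.comp_apply, mem_range_chart_zero, not_not] at h1
    have h2 : (MvPolynomial.aeval (R := K) fun _ : {j : Fin (1 + 1) // j ≠ 1} => s) (sVar K) ∈ p := h1
    simpa [sVar] using h2
  haveI : IsIso e.hom := ⟨e.inv, e.hom_inv_id, e.inv_hom_id⟩
  haveI : IsClosedImmersion f := inferInstance
  have hc : Function.Surjective (MvPolynomial.aeval (R := K) fun _ : {j : Fin (1 + 1) // j ≠ 1} => s) := by
    haveI : IsClosedImmersion (Spec.map (CommRingCat.ofHom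
        (MvPolynomial.aeval (R := K) fun _ : {j : Fin (1 + 1) // j ≠ 1} => s).toRingHom) ≫ ProjSpace.chart 1 K 1) := by
      rw [show _ ≫ _ = f from hs.symm]; infer_instance
    let g := CommRingCat.ofHom (MvPolynomial.aeval (R := K) fun _ : {j : Fin (1 + 1) // j ≠ 1} => s).toRingHom
    haveI : IsClosedImmersion (Spec.map g) := IsClosedImmersion.of_comp _ (ProjSpace.chart 1 K 1)
    have h := (IsClosedImmersion.isAffine_surjective_of_isAffine (Spec.map g)).2
    intro q
    obtain ⟨x, hx⟩ := h ((Scheme.ΓSpecIso _).inv q)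
    refine ⟨(Scheme.ΓSpecIso _).hom x, ?_⟩
    show g ((Scheme.ΓSpecIso _).hom x) = q
    rw [← ConcreteCategory.comp_apply, ← Scheme.ΓSpecIso_naturality, ConcreteCategory.comp_apply, hx,
      ← ConcreteCategory.comp_apply, Iso.inv_hom_id]
    rfl
  have hs2 : s * s ≠ 0 := by
    classical
    intro h0
    have hspan : ∀ p : MvPolynomial {j : Fin (1 + 1) // j ≠ 1} K,
        MvPolynomial.aeval (fun _ => s) p ∈ Submodule.span K (({1, s} : Finset Q) : Set Q) := by
      intro p
      suffices ∃ c d : K, MvPolynomial.aeval (fun _ => s) p = algebraMap K Q c + algebraMap K Q d * s by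
        obtain ⟨c, d, h⟩ := this
        rw [h, ← Algebra.smul_def, Algebra.algebraMap_eq_smul_one]
        exact add_mem (Submodule.smul_mem _ _ (Submodule.subset_span (by simp)))
          (Submodule.smul_mem _ _ (Submodule.subset_span (by simp)))
      induction p using MvPolynomial.induction_on with
      | C t => exact ⟨t, 0, by simp⟩
      | add p q hp hq =>
        obtain ⟨c, d, hp⟩ := hp
        obtain ⟨c', d', hq⟩ := hq
        exact ⟨c + c', d + d', by rw [map_add, hp, hq, map_add, map_add]; ring⟩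
      | mul_X p i hp =>
        obtain ⟨c, d, hp⟩ := hp
        refine ⟨0, c, ?_⟩
        rw [map_mul, hp, MvPolynomial.aeval_X, map_zero, zero_add]
        linear_combination algebraMap K Q d * h0
    have hle : (⊤ : Submodule K Q) ≤ Submodule.span K (({1, s} : Finset Q) : Set Q) := fun x _ => by
      obtain ⟨p, rfl⟩ := hc x
      exact hspan p
    have h2 := (finrank_span_finset_le_card (R := K) ({1, s} : Finset Q)).trans Finset.card_le_two
    rw [Set.finrank, top_le_iff.1 hle, finrank_top] at h2
    omega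
  -- conjugate
  let χ : P1 ≅ P1 := e.symm ≪≫ h ≪≫ φ ≪≫ h.symm ≪≫ e
  have hχ : χ.hom ≫ CohB1.ProjSpace.toSpec 1 K = CohB1.ProjSpace.toSpec 1 K := by
    simp only [χ, Iso.trans_hom, Iso.symm_hom, Category.assoc]
    rw [auto_toSpec, hm.isoPullback_inv_snd, hφ, hm.isoPullback_hom_snd, auto_toSpec]
  have hfixK : (eW.inv ≫ v) ≫ h.hom ≫ φ.hom ≫ h.inv = eW.inv ≫ v := by
    have h1 : ((eW.inv ≫ v) ≫ h.hom) ≫ φ.hom = (eW.inv ≫ v) ≫ h.hom := by
      refine hfix _ _ (eW.inv ≫ pullback.snd m r) ?_
      rw [Category.assoc, hm.isoPullback_hom_fst]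
      simp only [Category.assoc, v, m, r, pullback.condition]
    rw [← Category.assoc, ← Category.assoc, h1, Category.assoc, Iso.hom_inv_id, Category.comp_id]
  have hfixχ : pt (K := K) 1 s ≫ χ.hom = pt 1 s := by
    rw [← hs]
    simp only [f, χ, Iso.trans_hom, Iso.symm_hom, Category.assoc, Iso.hom_inv_id_assoc]
    have h1 := congrArg (· ≫ e.hom) hfixK
    simpa only [Category.assoc] using h1
  have hfixpt : χ.hom (e.hom z₀) = e.hom z₀ := by
    rw [← hfw w₀, ← Scheme.Hom.comp_apply, hs, hfixχ]
  have hrange : ∀ p, χ.hom p ∈ Set.range (ProjSpace.chart 1 K 0) ↔ p ∈ Set.range (ProjSpace.chart 1 K 0) := by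
    intro p
    have hinj : Function.Injective χ.hom := fun x y hxy => by
      have := congrArg χ.inv hxy
      rwa [← Scheme.Hom.comp_apply, ← Scheme.Hom.comp_apply, χ.hom_inv_id] at this
    constructor
    · intro h'
      by_contra hp
      rw [P1Form12.eq_of_not_mem hp hnot, hfixpt] at h'
      exact hnot h'
    · intro hp
      by_contra h'
      have := P1Form12.eq_of_not_mem h' hnot
      rw [← hfixpt] at this
      exact hnot (hinj this ▸ hp)
  have hid := rigid χ hχ hrange s hnil hs2 hfixχ
  have hχ' : χ = Iso.refl _ := Iso.ext hid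
  have : h ≪≫ φ ≪≫ h.symm = Iso.refl _ := by
    have h2 := congrArg (fun x => e ≪≫ x ≪≫ e.symm) hχ'
    ext1
    simpa [χ] using congrArg Iso.hom h2
  have h3 := congrArg Iso.hom this
  simp only [Iso.trans_hom, Iso.symm_hom, Iso.refl_hom] at h3
  rw [← cancel_epi h.hom, ← cancel_mono h.inv, Category.assoc, h3, Category.comp_id, Iso.hom_inv_id]

end Main

end Groth.Agent.P1Aut12
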